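import Cfsg.Agent.H563.KG.KE7
import Cfsg.Agent.H290.Wei.CharOne
import Cfsg.Agent.H290.Wei.TopElt
import Cfsg.Agent.H363.Wei.Alt

/-!
# The name of a simple subgroup of `E₇(q)` containing the torus of class 18 (helper296, for helper318's E7 row)

After helper363's `Wei.Name30` and helper563's `KG.Tab`; the tables have exceptions here.
-/

set_option autoImplicit false
set_option exponentiation.threshold 700

namespace Cfsg.Agent.H296.Wei

open Cfsg Cfsg.Agent.OrdDiv Cfsg.Agent.H436 Cfsg.Agent.H902 Cfsg.Agent.H902.Names Cfsg.Agent.H290.ElReg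
  Cfsg.Agent.H290.ElTab Cfsg.Agent.H290.ElCross Cfsg.Agent.H56.Exc Cfsg.Agent.H325.Loc Cfsg.Agent.H915.GN
  Cfsg.Agent.H264.FKS Cfsg.Agent.H563.KG
open Cfsg.Agent.H363.Wei (not_alt)

/-- the survivors, with exceptions -/
def svRx (n : ℕ) (Y : Art.Sh) (cls : List ℕ) (ex : List ((Art.Sh × ℕ × ℕ) × ℕ × ℕ)) : Bool :=
  (reg n).all fun x => sm.all fun y =>
    decide ((x, y) ∈ ex) || (y.1 == x.2.1 || !(tq Y cls (OL x.1 (x.2.1 ^ x.2.2)) (Art.dd x.1 (x.2.1 ^ x.2.2)) y.2))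

def svSx (Y : Art.Sh) (cls : List ℕ) (ex : List ((Cfsg.Agent.OrdDiv.Grp × ℕ) × ℕ × ℕ)) : Bool :=
  Cfsg.Agent.OrdDiv.spor.all fun x => sm.all fun y => decide ((x, y) ∈ ex) || !(tq Y cls x.2 1 y.2)

variable {n : ℕ} {Y : Art.Sh} {cls : List ℕ} {e₀ p f : ℕ}

/-- **Cross characteristic, with exceptions.** -/
theorem no_cross_x {ex : List ((Art.Sh × ℕ × ℕ) × ℕ × ℕ)} (hn : n ≤ 248) (hb : bndR n e₀ = true)
    (hs : svRx n Y cls ex = true) (he₀ : Cls e₀) (hmem : e₀ ∈ cls)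
    (hle : ∀ q, ncl e₀ q ≤ 2701 → q ≤ 7) {X : Art.Sh} {l a N : ℕ}
    (hR : Art.Real X l a N) (hlb : lb X (l ^ a) ≤ n) (hp : p.Prime) (hf : 1 ≤ f) (hpl : p ≠ l)
    (hcls : ∀ e ∈ cls, ncl e (p ^ f) ∣ N) (hd : N ∣ OL Y (p ^ f)) : ((X, l, a), (p, p ^ f)) ∈ ex := by
  obtain ⟨hl, ha, hokX, heq⟩ := hR
  have hq : 2 ≤ p ^ f := hp.two_le.trans (Nat.le_self_pow (by omega) p)
  have hreg := mem_reg hn hl ha hokX hlb
  have hs' : smooth (NA X l a) = true :=
    List.all_eq_true.1 smooth_reg (X, (l, a)) (mem_reg le_rfl hl ha hokX (hlb.trans hn))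
  have hsS : smooth (NS X l a) = true := by
    have h1 : NS X l a ∣ NA X l a := Dvd.intro_left _ rfl
    have h2 : NA X l a ∣ prs.prod ^ 100 := Nat.dvd_of_mod_eq_zero (by simpa [smooth] using hs')
    simpa [smooth] using Nat.mod_eq_zero_of_dvd (h1.trans h2)
  have hM : OL X (l ^ a) = Art.dd X (l ^ a) * N := by unfold OL; rw [numL_eq]; exact heq.symm
  have hNM : N ∣ OL X (l ^ a) := Dvd.intro_left _ hM.symm
  have hNS : ∀ r, r.Prime → r ∣ N → r ∣ NS X l a := by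
    intro r hr h
    unfold NS
    have h1 : r ∣ (l ^ a) ^ Art.NN X * numL X (l ^ a) := h.trans hNM
    rcases hr.dvd_mul.1 h1 with h2 | h2
    · exact (hr.dvd_of_dvd_pow (hr.dvd_of_dvd_pow h2)).mul_right _
    · exact h2.mul_left _
  have hb' := List.all_eq_true.1 hb (X, (l, a)) hreg
  simp only [Bool.and_eq_true, Nat.ble_eq, Nat.blt_eq] at hb'
  have hM0 : OL X (l ^ a) ≠ 0 := by
    intro h0
    have h3 : l ^ a ≠ 0 := pow_ne_zero _ hl.ne_zero
    have h4 : NS X l a ≠ 0 := by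
      intro h5
      have h6 : NS X l a ∣ prs.prod ^ 100 := Nat.dvd_of_mod_eq_zero (by simpa [smooth] using hsS)
      rw [h5] at h6
      have h7 := Nat.eq_zero_of_zero_dvd h6
      have h8 : prs.prod ≠ 0 := by decide +kernel
      exact pow_ne_zero 100 h8 h7
    apply h4
    unfold OL at h0
    rcases Nat.mul_eq_zero.1 h0 with h5 | h5
    · exact absurd h5 (pow_ne_zero _ h3)
    · unfold NS
      rw [h5, mul_zero]
  have h1 : ncl e₀ (p ^ f) ∣ De (pd (NS X l a)) (OL X (l ^ a)) e₀ := by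
    refine dvd_De hM0 hb'.2 ((hcls e₀ hmem).trans hNM) fun r hr hrd => ?_
    have hprim := prim_of_dvd he₀ (by omega) hr hrd
    exact ⟨mem_pd hsS hr (hNS r hr (hrd.trans (hcls e₀ hmem))), mod_of_prim hq (by
      have := he₀.ge
      omega) hprim⟩
  have h2 : ncl e₀ (p ^ f) ≤ 2701 := by
    have h3 : De (pd (NS X l a)) (OL X (l ^ a)) e₀ ≠ 0 := by
      unfold De
      intro h4
      rw [List.prod_eq_zero_iff, List.mem_map] at h4
      obtain ⟨r, -, h5⟩ := h4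
      exact hM0 (Nat.eq_zero_of_gcd_eq_zero_left h5)
    exact (Nat.le_of_dvd (Nat.pos_of_ne_zero h3) h1).trans hb'.1
  have h3 := mem_sm hp hf (hle _ h2)
  have h4 := List.all_eq_true.1 (List.all_eq_true.1 hs (X, (l, a)) hreg) _ h3
  rw [tq_of (fun e he => (hcls e he).trans hNM) hM hd] at h4
  simp only [Bool.not_true, Bool.or_false, Bool.or_eq_true, decide_eq_true_eq, beq_iff_eq] at h4
  rcases h4 with h4 | h4
  · exact h4
  · exact absurd h4 hpl

/-- **Sporadic groups, with exceptions.** -/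
theorem no_spor_x {ex : List ((Cfsg.Agent.OrdDiv.Grp × ℕ) × ℕ × ℕ)} (hb : bndS e₀ = true) (hs : svSx Y cls ex = true)
    (he₀ : Cls e₀) (hmem : e₀ ∈ cls)
    (hle : ∀ q, ncl e₀ q ≤ 2701 → q ≤ 7) {x : Cfsg.Agent.OrdDiv.Grp × ℕ} (hx : x ∈ Cfsg.Agent.OrdDiv.spor)
    (hp : p.Prime) (hf : 1 ≤ f)
    (hcls : ∀ e ∈ cls, ncl e (p ^ f) ∣ x.2) (hd : x.2 ∣ OL Y (p ^ f)) : (x, (p, p ^ f)) ∈ ex := by
  have hq : 2 ≤ p ^ f := hp.two_le.trans (Nat.le_self_pow (by omega) p)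
  have hs' : smooth x.2 = true := List.all_eq_true.1 smooth_spor x hx
  have hb' := List.all_eq_true.1 hb x hx
  simp only [Bool.and_eq_true, Nat.ble_eq, Nat.blt_eq] at hb'
  have hM0 : x.2 ≠ 0 := by
    have : ∀ x ∈ Cfsg.Agent.OrdDiv.spor, x.2 ≠ 0 := by decide +kernel
    exact this x hx
  have h1 : ncl e₀ (p ^ f) ∣ De (pd x.2) x.2 e₀ := by
    refine dvd_De hM0 hb'.2 (hcls e₀ hmem) fun r hr hrd => ?_
    have hprim := prim_of_dvd he₀ (by omega) hr hrd
    exact ⟨mem_pd hs' hr (hrd.trans (hcls e₀ hmem)), mod_of_prim hq (by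
      have := he₀.ge
      omega) hprim⟩
  have h2 : ncl e₀ (p ^ f) ≤ 2701 := by
    have h3 : De (pd x.2) x.2 e₀ ≠ 0 := by
      unfold De
      intro h4
      rw [List.prod_eq_zero_iff, List.mem_map] at h4
      obtain ⟨r, -, h5⟩ := h4
      exact hM0 (Nat.eq_zero_of_gcd_eq_zero_left h5)
    exact (Nat.le_of_dvd (Nat.pos_of_ne_zero h3) h1).trans hb'.1
  have h3 := mem_sm hp hf (hle _ h2)
  have h4 := List.all_eq_true.1 (List.all_eq_true.1 hs x hx) _ h3
  rw [tq_of hcls (one_mul _).symm hd] at h4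
  simpa only [Bool.not_true, Bool.or_false, decide_eq_true_eq] using h4

def exR : List ((Art.Sh × ℕ × ℕ) × ℕ × ℕ) :=
  [((.L 2, 19, 1), (2, 2)), ((.L 2, 37, 1), (3, 3)), ((.L 3, 7, 1), (2, 2))]

def exS : List ((Cfsg.Agent.OrdDiv.Grp × ℕ) × ℕ × ℕ) :=
  [((.j1, 175560), (2, 2)), ((.j3, 50232960), (2, 2)), ((.on, 460815505920), (2, 2))]

theorem svRx_E7_18 : svRx 133 .E7 [18] exR = true := by decide +kernel
theorem svSx_E7_18 : svSx .E7 [18] exS = true := by decide +kernel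

theorem cls18 : Cls 18 := by unfold Cls; omega

/-- a group named with shape `L n` is `PSL_n` -/
theorem eq_psl_of_isLie {g : Grp} {n l a : ℕ} (h : IsLie g (.L n) l a) : g = .psl n (l ^ a) := by
  cases h
  rfl

/-- **The name, one class.** -/
theorem exists_name18 (tb : OrderTable.{0}) {p f : ℕ} (hp : p.Prime) (hf : 1 ≤ f) {F : Type} [Field F] [CharP F p]
    {S : Type} [Group S] [Finite S] [IsSimpleGroup S] (hna : ¬ IsMulCommutative S) (hK : IsKnownSimple' S)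
    (hrep : Fth 133 F S) (hcls : ncl 18 (p ^ f) ∣ Nat.card S) (hd : Nat.card S ∣ OL .E7 (p ^ f)) {m : ℕ}
    (hbig : ∀ r, Prim (p ^ f) 18 r → Big S r m 18) :
    ∃ g, IsNamed g S ∧ (HasChar p g ∨
      (p ^ f = 2 ∧ (g = .psl 2 19 ∨ g = .psl 3 7 ∨ g = .j1 ∨ g = .j3 ∨ g = .on)) ∨ (p ^ f = 3 ∧ g = .psl 2 37)) := by
  have hna' : ¬ ∀ a b : S, a * b = b * a := fun h => hna ⟨⟨h⟩⟩
  have hq : 2 ≤ p ^ f := hp.two_le.trans (Nat.le_self_pow (by omega) p)
  obtain ⟨g, hgS⟩ := exists_named tb hK hna'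
  have hcls' : ∀ e ∈ [18], ncl e (p ^ f) ∣ Nat.card S := fun e he => by
    rw [List.mem_singleton] at he
    subst he
    exact hcls
  rcases Cfsg.Agent.H192.Singer.cases_name hgS.cond with ⟨k, rfl⟩ | hsp | ⟨l, hl, hch⟩
  · exfalso
    obtain ⟨Φ⟩ : Nonempty (S ≃* alternatingGroup (Fin k)) := hgS.real
    have hk : 5 ≤ k := hgS.cond
    have hnil : ∀ r, Prim (p ^ f) 18 r → ∀ x : S, orderOf x = r →
        Group.IsNilpotent (Subgroup.centralizer ({x} : Set S)) := fun r hr x hx => by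
      have := (hbig r hr).cyc x hx
      let _ := IsCyclic.commGroup (α := ↥(Subgroup.centralizer ({x} : Set S)))
      infer_instance
    have h1 := window hq cls18 (by norm_num) (by omega) Φ hcls hnil
    obtain ⟨r, hr⟩ := exists_prim hq (show 3 ≤ 18 by omega) (by omega)
    have hrS : r ∣ Nat.card S := (dvd_ncl cls18 (by omega) hr).trans hcls
    rcases Nat.lt_or_ge 2 (p ^ f) with h3 | h3
    · have h2 : k ≤ r + 3 := by
        refine Cfsg.Agent.H290.ElRich.alt_le hr.prime ?_ Φ hrS (hnil r hr)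
        have := five_le_of_cls hq (show 7 ≤ 18 by norm_num) hr
        omega
      have h3 := ncl18_gt h3
      exact not_alt (hbig r hr) (by norm_num) hrS (by omega) Φ
    · have h2 : p ^ f = 2 := by omega
      rw [h2] at h1 hd
      have h4 : ncl 18 2 = 19 := by decide +kernel
      rw [h4] at h1
      have : Nontrivial (Fin k) := Fin.nontrivial_iff_two_le.2 (by omega)
      have h5 : 2 * Nat.card S = k.factorial := by
        rw [Nat.card_congr Φ.toEquiv, Nat.card_eq_fintype_card, two_mul_card_alternatingGroup, Fintype.card_perm,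
          Fintype.card_fin]
      have h6 : 2 * 5 ^ 3 ∣ k.factorial := by
        have h7 : Nat.factorial 19 ∣ k.factorial := Nat.factorial_dvd_factorial h1.1
        have h8 : 2 * 5 ^ 3 ∣ Nat.factorial 19 := by decide +kernel
        exact h8.trans h7
      rw [← h5] at h6
      have h7 : 5 ^ 3 ∣ Nat.card S := Nat.dvd_of_mul_dvd_mul_left (by norm_num) h6
      have h8 : ¬ 5 ^ 3 ∣ OL .E7 2 := by decide +kernel
      exact h8 (h7.trans hd)
  · have h1 := Cfsg.Agent.H192.Singer.spor_mem hsp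
    have h2 : Nat.card S = ordN g := hgS.ord
    have h3 := no_spor_x bndS_18 svSx_E7_18 cls18 (by decide) (fun q h => (le_four18 h).trans (by norm_num)) h1 hp hf
      (fun e he => by rw [← h2]; exact hcls' e he) (by rw [← h2]; exact hd)
    refine ⟨g, hgS, Or.inr (Or.inl ?_)⟩
    unfold exS at h3
    simp only [List.mem_cons, List.not_mem_nil, or_false, Prod.mk.injEq] at h3
    rcases h3 with ⟨⟨h, -⟩, -, h'⟩ | ⟨⟨h, -⟩, -, h'⟩ | ⟨⟨h, -⟩, -, h'⟩
    · exact ⟨h', Or.inr (Or.inr (Or.inl h))⟩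
    · exact ⟨h', Or.inr (Or.inr (Or.inr (Or.inl h)))⟩
    · exact ⟨h', Or.inr (Or.inr (Or.inr (Or.inr h)))⟩
  · by_cases hpl : p = l
    · subst hpl
      exact ⟨g, hgS, Or.inl hch⟩
    · obtain ⟨X, f₁, h1, h2, -⟩ := exists_lie hl hgS hch
      have hlF : (l : F) ≠ 0 := by
        intro h
        exact hpl ((Nat.prime_dvd_prime_iff_eq hp hl).1 ((CharP.cast_eq_zero_iff F p l).1 h))
      have h3 := lb_le hna' (by norm_num) hrep h1 hgS.real h2 hlF
      have h4 := no_cross_x (n := 133) (by norm_num) bndR_133_18 svRx_E7_18 cls18 (by decide)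
        (fun q h => (le_four18 h).trans (by norm_num)) h2 h3 hp hf hpl hcls' hd
      refine ⟨g, hgS, Or.inr ?_⟩
      unfold exR at h4
      simp only [List.mem_cons, List.not_mem_nil, or_false, Prod.mk.injEq] at h4
      rcases h4 with ⟨⟨rfl, rfl, rfl⟩, -, h'⟩ | ⟨⟨rfl, rfl, rfl⟩, -, h'⟩ | ⟨⟨rfl, rfl, rfl⟩, -, h'⟩
      · exact Or.inl ⟨h', Or.inl (by simpa using eq_psl_of_isLie h1)⟩
      · exact Or.inr ⟨h', by simpa using eq_psl_of_isLie h1⟩
      · exact Or.inl ⟨h', Or.inr (Or.inl (by simpa using eq_psl_of_isLie h1))⟩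

end Cfsg.Agent.H296.Wei
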